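import Cfsg.Agent.Lib.OneVanishing.Main
import Cfsg.Agent.Lib.PLocal.CoprimeGen
import Cfsg.Agent.Lib.PSolvable.HallHigman

/-!
# Vanishing elements over an abelian normal `p`-subgroup of `X / O_{p'}(X)`

If `O_p(X) = 1`, a `p`-element `s` mapped to a nontrivial element of an abelian normal `p`-subgroup of
the quotient is vanishing, and so is `s * m` for `m` in a minimal normal subgroup of `O_{p'}(X)`
commuting with `s`.
-/

set_option autoImplicit false

namespace Cfsg.Agent.Lib.VanishingOrder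

open Cfsg.Agent.Lib Cfsg.Agent.Lib.Characters.Basic
open scoped commutatorElement

universe u

variable {X : Type u} [Group X] [Finite X] {p : ℕ} [hp : Fact p.Prime]

/-- A central quotient argument: commuting `p`-elements modulo a central `p'`-part. -/
theorem commute_of_central {a b : X} {k : ℕ} {N : Subgroup X} (hN : (Nat.card N).Coprime p)
    (hc : ⁅a, b⁆ ∈ N) (hcen : ⁅a, b⁆ * b = b * ⁅a, b⁆) (hb : b ^ p ^ k = 1) : a * b = b * a := by
  set c := ⁅a, b⁆ with hcdef
  have h1 : a * b * a⁻¹ = c * b := by rw [hcdef, commutatorElement_def]; group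
  have h2 := conj_pow (i := p ^ k) (a := a) (b := b)
  rw [h1, hb, mul_one, mul_inv_cancel, (show Commute c b from hcen).mul_pow, hb, mul_one] at h2
  have h3 : orderOf c = 1 := Nat.eq_one_of_dvd_coprimes
    (hN.pow_right k) (Subgroup.orderOf_dvd_natCard (s := N) hc) (orderOf_dvd_of_pow_eq_one h2)
  exact commutatorElement_eq_one_iff_mul_comm.mp (orderOf_eq_one_iff.mp h3)

set_option maxHeartbeats 400000 in
theorem exists_zero_mul [Group.IsSolvable X] (K : Subgroup X) [K.Normal]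
    (hK : (Nat.card K).Coprime p) (hX : Cfsg.pCore p X = ⊥) (A : Subgroup (X ⧸ K)) [A.Normal]
    (hA : IsPGroup p A) (hAc : ∀ a ∈ A, ∀ b ∈ A, a * b = b * a) (M : Subgroup X) [M.Normal]
    (hMK : M ≤ K) (hMab : ∀ a ∈ M, ∀ b ∈ M, a * b = b * a)
    (hMmin : ∀ W : Subgroup X, W.Normal → W ≤ M → W = ⊥ ∨ W = M) {s m : X} {k : ℕ}
    (hsk : s ^ p ^ k = 1) (hsA : (s : X ⧸ K) ∈ A) (hsK : s ∉ K) (hm : m ∈ M) :
    ∃ χ : Cfsg.IrrCharacter X, (χ : X → ℂ) (s * m) = 0 := by
  classical
  set B₀ := Subgroup.normalClosure ({s} : Set X) with hB₀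
  have hsB₀ : s ∈ B₀ := Subgroup.subset_normalClosure rfl
  have hB₀A : B₀.map (QuotientGroup.mk' K) ≤ A := by
    rw [Subgroup.map_le_iff_le_comap]
    haveI : (A.comap (QuotientGroup.mk' K)).Normal := inferInstance
    exact Subgroup.normalClosure_le_normal (Set.singleton_subset_iff.mpr hsA)
  set D := B₀ ⊓ K with hD
  haveI : D.Normal := inferInstance
  set D₂ := D ⊔ M with hD₂
  haveI : D₂.Normal := inferInstance
  set B := B₀ ⊔ M with hB
  haveI : B.Normal := inferInstance
  set L := ⁅D₂, D₂⁆ with hL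
  haveI : L.Normal := inferInstance
  have hD₂K : D₂ ≤ K := sup_le inf_le_right hMK
  have hcopD₂ : (Nat.card D₂).Coprime p := hK.coprime_dvd_left (Subgroup.card_dvd_of_le hD₂K)
  have hcommB₀ : ∀ a ∈ B₀, ∀ b ∈ B₀, ⁅a, b⁆ ∈ D := fun a ha b hb => by
    refine ⟨B₀.mul_mem (B₀.mul_mem (B₀.mul_mem ha hb) (B₀.inv_mem ha)) (B₀.inv_mem hb),
      (QuotientGroup.eq_one_iff _).mp ?_⟩
    rw [← QuotientGroup.mk'_apply, map_commutatorElement, commutatorElement_eq_one_iff_mul_comm]
    exact hAc _ (hB₀A (Subgroup.mem_map_of_mem _ ha)) _ (hB₀A (Subgroup.mem_map_of_mem _ hb))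
  have hBB : ⁅B, B⁆ ≤ D₂ := by
    rw [Subgroup.commutator_le]
    intro a ha b hb
    rw [← QuotientGroup.eq_one_iff, ← QuotientGroup.mk'_apply, map_commutatorElement]
    have hred : ∀ a ∈ B, ∃ a₀ ∈ B₀, QuotientGroup.mk' D₂ a₀ = QuotientGroup.mk' D₂ a := fun a ha => by
      obtain ⟨a₀, ha₀, a₁, ha₁, rfl⟩ := Subgroup.mem_sup_of_normal_left.mp ha
      exact ⟨a₀, ha₀, by rw [map_mul, (QuotientGroup.eq_one_iff a₁).mpr
        (le_sup_right (a := D) ha₁) |> fun h => (show QuotientGroup.mk' D₂ a₁ = 1 from h), mul_one]⟩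
    obtain ⟨a₀, ha₀, hae⟩ := hred a ha
    obtain ⟨b₀, hb₀, hbe⟩ := hred b hb
    rw [← hae, ← hbe, ← map_commutatorElement]
    exact (QuotientGroup.eq_one_iff _).mpr (le_sup_left (b := M) (hcommB₀ a₀ ha₀ b₀ hb₀))
  let f := QuotientGroup.mk' L
  haveI : (D₂.map f).Normal := Subgroup.Normal.map inferInstance _ (QuotientGroup.mk'_surjective L)
  haveI : (B.map f).Normal := Subgroup.Normal.map inferInstance _ (QuotientGroup.mk'_surjective L)
  have hNab : ∀ a ∈ D₂.map f, ∀ b ∈ D₂.map f, a * b = b * a := by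
    rintro _ ⟨a, ha, rfl⟩ _ ⟨b, hb, rfl⟩
    rw [← commutatorElement_eq_one_iff_mul_comm, ← map_commutatorElement]
    exact (QuotientGroup.eq_one_iff _).mpr (Subgroup.commutator_mem_commutator ha hb)
  have hcard : (Nat.card (D₂.map f)).Coprime p :=
    hcopD₂.coprime_dvd_left (Subgroup.card_map_dvd D₂ f)
  have hcop : ((D₂.map f).relIndex (B.map f)).Coprime (Nat.card (D₂.map f)) := by
    have h1 : (D₂.map f).relIndex (B.map f) ∣ D₂.relIndex B := by
      rw [← Subgroup.relIndex_comap]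
      have h2 : (B : Subgroup X) ≤ ⊤ := le_top
      exact Subgroup.relIndex_dvd_of_le_left B (Subgroup.le_comap_map f D₂)
    have h3 : D₂.relIndex B ∣ K.relIndex B₀ := by
      have : B = B₀ ⊔ D₂ := by
        rw [hB, hD₂, hD, ← sup_assoc, sup_eq_left.mpr (inf_le_left : B₀ ⊓ K ≤ B₀)]
      rw [this, Subgroup.relIndex_sup_right, ← Subgroup.inf_relIndex_left B₀ K]
      exact Subgroup.relIndex_dvd_of_le_left B₀ (le_sup_of_le_left le_rfl)
    obtain ⟨j, hj⟩ := IsPGroup.iff_card.mp (hA.to_le hB₀A)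
    have h4 : K.relIndex B₀ = p ^ j := by
      rw [← hj, ← Subgroup.relIndex_ker, QuotientGroup.ker_mk']
    refine Nat.Coprime.coprime_dvd_left (h1.trans h3) ?_
    rw [h4]
    exact (hcard.pow_right j).symm
  have hsmB : f (s * m) ∈ B.map f :=
    Subgroup.mem_map_of_mem f (mul_mem (Subgroup.mem_sup_left hsB₀) (Subgroup.mem_sup_right hm))
  by_contra hv
  push Not at hv
  have hfix : ∀ d ∈ D₂, f s * f d = f d * f s := by
    intro d hd
    by_contra hne
    have hmd : f m * f d = f d * f m := hNab _ (Subgroup.mem_map_of_mem f (Subgroup.mem_sup_right hm))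
      _ (Subgroup.mem_map_of_mem f hd)
    obtain ⟨χ, hχ⟩ := OneVanishing.Vanish.exists_zero_of_abelian (B.map f) (D₂.map f)
      (Subgroup.map_mono (sup_le_sup inf_le_left le_rfl)) hNab
      (by rw [← Subgroup.map_commutator]; exact Subgroup.map_mono hBB) hcop hsmB
      (Subgroup.mem_map_of_mem f hd) (fun h => hne (by
        refine mul_right_cancel (b := f m) ?_
        rw [map_mul, mul_assoc, hmd] at h
        rw [mul_assoc, mul_assoc]
        exact h))
    exact hv ⟨(χ : X ⧸ L → ℂ) ∘ f,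
      isIrrCharacter_comp f (QuotientGroup.mk'_surjective L) χ.2⟩ hχ
  -- all conjugates of `s` act trivially, so the normal closure is a `p`-group modulo `L`
  have hall : ∀ b ∈ B₀, ∀ d ∈ D₂, f b * f d = f d * f b := by
    intro b hb d hd
    have hle : B₀ ≤ (Subgroup.centralizer (D₂.map f : Set (X ⧸ L))).comap f := by
      refine Subgroup.normalClosure_le_normal (Set.singleton_subset_iff.mpr ?_)
      rintro _ ⟨d, hd, rfl⟩
      exact (hfix d hd).symm
    exact (hle hb (f d) (Subgroup.mem_map_of_mem f hd)).symm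
  have hconjp : ∀ g : X, (g * s * g⁻¹) ^ p ^ k = 1 := fun g => by
    rw [conj_pow, hsk, mul_one, mul_inv_cancel]
  have hcomm : ∀ g h : X, f (g * s * g⁻¹) * f (h * s * h⁻¹) = f (h * s * h⁻¹) * f (g * s * g⁻¹) := by
    intro g h
    have hg : g * s * g⁻¹ ∈ B₀ := Subgroup.Normal.conj_mem inferInstance s hsB₀ g
    have hh : h * s * h⁻¹ ∈ B₀ := Subgroup.Normal.conj_mem inferInstance s hsB₀ h
    have hc : ⁅g * s * g⁻¹, h * s * h⁻¹⁆ ∈ D₂ := Subgroup.mem_sup_left (hcommB₀ _ hg _ hh)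
    refine commute_of_central (k := k) hcard ?_ ?_ (by rw [← map_pow, hconjp, map_one])
    · rw [← map_commutatorElement]
      exact Subgroup.mem_map_of_mem f hc
    · rw [← map_commutatorElement]
      exact (hall _ hh _ hc).symm
  have hBp : IsPGroup p (B₀.map f) := by
    let S : Set (X ⧸ L) := f '' Group.conjugatesOfSet ({s} : Set X)
    have hS : B₀.map f = Subgroup.closure S := by
      rw [hB₀, Subgroup.normalClosure, MonoidHom.map_closure]
    have hSmem : ∀ z ∈ S, ∃ g, z = f (g * s * g⁻¹) := by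
      rintro _ ⟨y, hy, rfl⟩
      obtain ⟨a, rfl, hy'⟩ := Group.mem_conjugatesOfSet_iff.mp hy
      obtain ⟨g, rfl⟩ := isConj_iff.mp hy'
      exact ⟨g, rfl⟩
    haveI : IsMulCommutative (Subgroup.closure S) :=
      Subgroup.isMulCommutative_closure (fun x hx y hy => by
        obtain ⟨g, rfl⟩ := hSmem x hx
        obtain ⟨h, rfl⟩ := hSmem y hy
        exact hcomm g h)
    intro z
    refine ⟨k, Subtype.ext ?_⟩
    rw [Subgroup.coe_pow, Subgroup.coe_one]
    have hz : (z : X ⧸ L) ∈ Subgroup.closure S := hS ▸ z.2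
    refine Subgroup.closure_induction (p := fun x _ => x ^ p ^ k = 1) ?_ (one_pow _) ?_ ?_ hz
    · intro x hx
      obtain ⟨g, rfl⟩ := hSmem x hx
      rw [← map_pow, hconjp, map_one]
    · intro x y hx hy h1 h2
      have hxy : Commute x y := congrArg Subtype.val
        (IsMulCommutative.is_comm.comm (⟨x, hx⟩ : Subgroup.closure S) ⟨y, hy⟩)
      rw [hxy.mul_pow, h1, h2, one_mul]
    · intro x _ h1
      rw [inv_pow, h1, inv_one]
  have hDL : D ≤ L := fun d hd => by
    obtain ⟨j, hj⟩ := IsPGroup.iff_orderOf.mp hBp ⟨f d, Subgroup.mem_map_of_mem f hd.1⟩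
    rw [Subgroup.orderOf_mk] at hj
    refine (QuotientGroup.eq_one_iff d).mp (orderOf_eq_one_iff.mp ?_)
    exact Nat.eq_one_of_dvd_coprimes (hcard.pow_right j)
      (Subgroup.orderOf_dvd_natCard _ (Subgroup.mem_map_of_mem f
        (Subgroup.mem_sup_left hd))) hj.dvd
  have hLD : L ≤ ⁅D, D⁆ := by
    rcases hMmin (D ⊓ M) inferInstance inf_le_right with h | h
    · have hc : ∀ d ∈ D, ∀ a ∈ M, d * a = a * d := fun d hd a ha => by
        refine commutatorElement_eq_one_iff_mul_comm.mp ((Subgroup.mem_bot).mp (h ▸ ?_))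
        exact Subgroup.commutator_le_inf D M (Subgroup.commutator_mem_commutator hd ha)
      have hMc : ∀ a ∈ M, ∀ b ∈ D₂, a * b = b * a := by
        intro a ha b hb
        obtain ⟨d, hd, e, he, rfl⟩ := Subgroup.mem_sup_of_normal_left.mp hb
        exact ((show Commute a d from (hc d hd a ha).symm).mul_right (hMab a ha e he)).eq
      rw [hL, Subgroup.commutator_le]
      intro a ha b hb
      obtain ⟨d, hd, e, he, rfl⟩ := Subgroup.mem_sup_of_normal_left.mp ha
      obtain ⟨d', hd', e', he', rfl⟩ := Subgroup.mem_sup_of_normal_left.mp hb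
      have c1 : Commute e (d' * e') := hMc e he _ hb
      have c2 : Commute e' d := hMc e' he' _ (Subgroup.mem_sup_left hd)
      have h5 : ⁅d * e, d' * e'⁆ = ⁅d, d'⁆ := by
        rw [commutatorElement_def, commutatorElement_def, mul_inv_rev, mul_inv_rev]
        calc d * e * (d' * e') * (e⁻¹ * d⁻¹) * (e'⁻¹ * d'⁻¹)
            = d * (e * (d' * e')) * e⁻¹ * d⁻¹ * e'⁻¹ * d'⁻¹ := by group
          _ = d * (d' * e' * e) * e⁻¹ * d⁻¹ * e'⁻¹ * d'⁻¹ := by rw [c1.eq]
          _ = d * d' * (e' * d⁻¹) * e'⁻¹ * d'⁻¹ := by group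
          _ = d * d' * (d⁻¹ * e') * e'⁻¹ * d'⁻¹ := by rw [c2.inv_right.eq]
          _ = d * d' * d⁻¹ * d'⁻¹ := by group
      rw [h5]
      exact Subgroup.commutator_mem_commutator hd hd'
    · have : D₂ = D := sup_eq_left.mpr (h ▸ inf_le_left)
      rw [hL, this]
  have hD0 : D = ⊥ := by
    by_contra hne
    exact (Group.IsSolvable.commutator_lt_of_ne_bot hne).not_ge (hDL.trans hLD)
  have hB₀p : IsPGroup p B₀ := by
    refine (hA.to_le hB₀A).of_injective ((QuotientGroup.mk' K).subgroupMap B₀) ?_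
    rw [injective_iff_map_eq_one]
    intro x hx
    have : (x : X) ∈ D := ⟨x.2, (QuotientGroup.eq_one_iff _).mp (congrArg Subtype.val hx)⟩
    rw [hD0, Subgroup.mem_bot] at this
    exact Subtype.ext this
  exact hsK ((Subgroup.mem_bot.mp (hX ▸ Cores.le_pCore hB₀p hsB₀)) ▸ K.one_mem)

end Cfsg.Agent.Lib.VanishingOrder
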