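import Cfsg.Agent.Lib.VanishingOrder.Basic

/-!
# Solvable groups whose vanishing elements of order divisible by `p` have one order

If `O_p(X) = 1` then a Sylow `p`-subgroup of `X` has order at most `p`.
-/

set_option autoImplicit false

namespace Cfsg.Agent.Lib.VanishingOrder

open Cfsg.Agent.Lib Cfsg.Agent.Lib.Characters.Basic
open Cfsg.Agent.Lib.OneVanishing.Main (Van van_lift dvd_orderOf_of_isPGroup)
open scoped commutatorElement

universe u

variable {X : Type u} [Group X] [Finite X] {p : ℕ} [hp : Fact p.Prime]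

/-- The consequences, inherited by quotients, of all vanishing `p`-singular elements having one
order. -/
structure Hyp (p : ℕ) (X : Type u) [Group X] : Prop where
  pow : ∀ (x : X) (m : ℕ), Van p x → Van p (x ^ m) → m.Coprime (orderOf x)
  ppow : ∀ (x y : X) (j : ℕ), Van p x → Van p y → y ^ p ^ j = 1 → ∃ i, x ^ p ^ i = 1

theorem Hyp.of_order {b : ℕ} (h : ∀ x : X, Van p x → orderOf x = b) : Hyp p X where
  pow := fun x m hx hxm => by
    have h1 : orderOf (x ^ m) = orderOf x := (h _ hxm).trans (h _ hx).symm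
    rw [orderOf_pow] at h1
    have h2 := Nat.div_eq_self.mp h1
    rcases h2 with h2 | h2
    · exact absurd h2 (orderOf_pos x).ne'
    · rw [Nat.Coprime, Nat.gcd_comm]; exact h2
  ppow := fun x y j hx hy hyj => ⟨j, by
    rw [← orderOf_dvd_iff_pow_eq_one, h x hx, ← h y hy]
    exact orderOf_dvd_of_pow_eq_one hyj⟩

theorem Hyp.quotient (h : Hyp p X) (N : Subgroup X) [N.Normal] : Hyp p (X ⧸ N) where
  pow := fun x m hx hxm => by
    obtain ⟨g, rfl⟩ := QuotientGroup.mk'_surjective N x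
    rw [← map_pow] at hxm
    exact (h.pow g m (van_lift _ (QuotientGroup.mk'_surjective N) hx)
      (van_lift _ (QuotientGroup.mk'_surjective N) hxm)).coprime_dvd_right
      (orderOf_map_dvd _ g)
  ppow := fun x y j hx hy hyj => by
    obtain ⟨g, rfl⟩ := QuotientGroup.mk'_surjective N x
    obtain ⟨k, rfl⟩ := QuotientGroup.mk'_surjective N y
    -- a `p`-element lift of `k`
    obtain ⟨e, m, hm, hem⟩ := Nat.exists_eq_pow_mul_and_not_dvd (orderOf_pos k).ne' p hp.out.ne_one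
    have hco : (p ^ max e j).Coprime m := (hp.out.coprime_iff_not_dvd.mpr hm).pow_left _
    obtain ⟨s, hs1, hs0⟩ := Nat.chineseRemainder hco 1 0
    have hky : QuotientGroup.mk' N (k ^ s) = QuotientGroup.mk' N k := by
      rw [map_pow]
      conv_rhs => rw [← pow_one (QuotientGroup.mk' N k)]
      exact pow_eq_pow_iff_modEq.mpr (hs1.of_dvd ((orderOf_dvd_of_pow_eq_one hyj).trans
        (pow_dvd_pow p (le_max_right e j))))
    obtain ⟨i, hi⟩ := h.ppow g (k ^ s) e (van_lift _ (QuotientGroup.mk'_surjective N) hx)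
      (van_lift (QuotientGroup.mk' N) (QuotientGroup.mk'_surjective N) (by rw [hky]; exact hy)) (by
        obtain ⟨t, rfl⟩ := Nat.modEq_zero_iff_dvd.mp hs0
        rw [← pow_mul, mul_comm, ← mul_assoc, ← hem, pow_mul, pow_orderOf_eq_one, one_pow])
    exact ⟨i, by rw [← map_pow, hi, map_one]⟩

/-- Vanishing elements over a `p`-subgroup force it to have order at most `p`. -/
theorem card_le_of_van (h : Hyp p X) (K : Subgroup X) [K.Normal] (hK : (Nat.card K).Coprime p)
    (M : Subgroup X) [M.Normal] (hM : M ≠ ⊥) (hMK : M ≤ K) (hMab : ∀ a ∈ M, ∀ b ∈ M, a * b = b * a)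
    (A : Subgroup (X ⧸ K)) (hA : IsPGroup p A) (hAc : ∀ a ∈ A, ∀ b ∈ A, a * b = b * a)
    (hvan : ∀ g : X, (g : X ⧸ K) ∈ A → g ∉ K → (∃ j, g ^ p ^ j = 1) → ∀ m ∈ M,
      ∃ χ : Cfsg.IrrCharacter X, (χ : X → ℂ) (g * m) = 0) :
    Nat.card A ≤ p := by
  classical
  have hMp : (Nat.card M).Coprime p := hK.coprime_dvd_left (Subgroup.card_dvd_of_le hMK)
  let T := A.comap (QuotientGroup.mk' K)
  have hTA : T.map (QuotientGroup.mk' K) = A :=
    Subgroup.map_comap_eq_self_of_surjective (QuotientGroup.mk'_surjective K) A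
  obtain ⟨P₀⟩ : Nonempty (Sylow p T) := inferInstance
  let Q := (P₀ : Subgroup T).map T.subtype
  have hQp : IsPGroup p Q := P₀.isPGroup'.map _
  have hQA : Q.map (QuotientGroup.mk' K) = A := by
    rw [PSolvable.map_sylow_eq_map_of_isPGroup _ T (by rw [hTA]; exact hA) P₀, hTA]
  have hQK : ∀ x ∈ Q, x ∈ K → x = 1 := fun x hx hxK => by
    obtain ⟨j, hj⟩ := IsPGroup.iff_orderOf.mp hQp ⟨x, hx⟩
    rw [Subgroup.orderOf_mk] at hj
    exact orderOf_eq_one_iff.mp (Nat.eq_one_of_dvd_coprimes (hK.pow_right j)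
      (Subgroup.orderOf_dvd_natCard K hxK) hj.dvd)
  have hQp' : ∀ x ∈ Q, ∃ j, x ^ p ^ j = 1 := fun x hx => by
    obtain ⟨j, hj⟩ := hQp ⟨x, hx⟩
    exact ⟨j, by simpa using congrArg Subtype.val hj⟩
  have hmemA : ∀ x ∈ Q, (x : X ⧸ K) ∈ A := fun x hx => hQA ▸ Subgroup.mem_map_of_mem _ hx
  have hQc : ∀ x ∈ Q, ∀ y ∈ Q, x * y = y * x := fun x hx y hy => by
    refine commutatorElement_eq_one_iff_mul_comm.mp (hQK _
      (Q.mul_mem (Q.mul_mem (Q.mul_mem hx hy) (Q.inv_mem hx)) (Q.inv_mem hy)) ?_)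
    rw [← QuotientGroup.eq_one_iff, ← QuotientGroup.mk'_apply, map_commutatorElement,
      commutatorElement_eq_one_iff_mul_comm]
    exact hAc _ (hmemA x hx) _ (hmemA y hy)
  have hVan : ∀ x ∈ Q, x ≠ 1 → ∀ m ∈ M, Commute x m → Van p (x * m) := fun x hx hx1 m hm hc => by
    refine ⟨hvan x (hmemA x hx) (fun hk => hx1 (hQK x hx hk)) (hQp' x hx) m hm, ?_⟩
    have h1 : (QuotientGroup.mk' K) (x * m) = x := by
      rw [map_mul, show QuotientGroup.mk' K m = 1 from (QuotientGroup.eq_one_iff m).mpr (hMK hm),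
        mul_one, QuotientGroup.mk'_apply]
    refine (dvd_orderOf_of_isPGroup hA (hmemA x hx) fun h1 =>
      hx1 (hQK x hx ((QuotientGroup.eq_one_iff x).mp h1))).trans ?_
    rw [← h1]
    exact orderOf_map_dvd _ _
  have hVan1 : ∀ x ∈ Q, x ≠ 1 → Van p x := fun x hx hx1 => by
    have := hVan x hx hx1 1 (one_mem M) (Commute.one_right x)
    rwa [mul_one] at this
  have hexp : ∀ x ∈ Q, x ^ p = 1 := fun x hx => by
    by_contra hne
    have hx1 : x ≠ 1 := fun h => hne (by rw [h, one_pow])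
    have h1 := h.pow x p (hVan1 x hx hx1) (hVan1 _ (Q.pow_mem hx p) hne)
    exact ((hp.out.coprime_iff_not_dvd).mp h1) (hVan1 x hx hx1).2
  have hfpf : ∀ x ∈ Q, x ≠ 1 → ∀ m ∈ M, x * m * x⁻¹ = m → m = 1 := fun x hx hx1 m hm hc => by
    have hc' : Commute x m := mul_inv_eq_iff_eq_mul.mp hc
    obtain ⟨i, hi⟩ := h.ppow (x * m) x 1 (hVan x hx hx1 m hm hc') (hVan1 x hx hx1)
      (by rw [pow_one]; exact hexp x hx)
    rcases Nat.eq_zero_or_pos i with rfl | hi0
    · rw [pow_zero, pow_one] at hi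
      exact absurd (hQK x hx (by
        rw [eq_inv_of_mul_eq_one_left hi]; exact K.inv_mem (hMK hm))) hx1
    · rw [hc'.mul_pow, ← Nat.succ_pred_eq_of_pos hi0, pow_succ' p, pow_mul x, hexp x hx, one_pow,
        one_mul] at hi
      exact orderOf_eq_one_iff.mp (Nat.eq_one_of_dvd_coprimes
        (hMp.pow_right _) (Subgroup.orderOf_dvd_natCard M hm)
        ((orderOf_dvd_of_pow_eq_one hi).trans (by rw [pow_succ'])))
  -- two elements of `A` are dependent
  by_cases hA1 : A = ⊥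
  · rw [hA1, Subgroup.card_bot]; exact hp.out.one_lt.le
  obtain ⟨b, hb, hb1⟩ := (Subgroup.bot_or_exists_ne_one A).resolve_left hA1
  obtain ⟨t, ht, rfl⟩ : b ∈ Q.map (QuotientGroup.mk' K) := hQA ▸ hb
  have ht1 : t ≠ 1 := fun h => hb1 (by rw [h, map_one])
  have hle : A ≤ Subgroup.zpowers (QuotientGroup.mk' K t) := by
    intro a ha
    obtain ⟨s, hs, rfl⟩ : a ∈ Q.map (QuotientGroup.mk' K) := hQA ▸ ha
    letI : CommGroup M := { (inferInstance : Group M) with
      mul_comm := fun a b => Subtype.ext (hMab a a.2 b b.2) }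
    haveI : Nontrivial M := (Subgroup.nontrivial_iff_ne_bot M).mpr hM
    let c : X →* MulAut M := MulAut.conjNormal
    rcases PLocal.exists_fixed_of_two hMp (c s) (c t)
      (by show c s * c t = c t * c s; rw [← map_mul, ← map_mul, hQc s hs t ht])
      (by rw [← map_pow, hexp s hs, map_one]) (by rw [← map_pow, hexp t ht, map_one])
      with ⟨w, hw1, hw⟩ | ⟨k, -, w, hw1, hw⟩
    · exact absurd (Subtype.ext (hfpf t ht ht1 w w.2 (congrArg Subtype.val hw))) hw1
    · rw [← map_pow, ← map_mul] at hw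
      by_cases hst : s * t ^ k = 1
      · rw [eq_inv_of_mul_eq_one_left hst, map_inv, map_pow]
        exact Subgroup.inv_mem _ (Subgroup.pow_mem _ (Subgroup.mem_zpowers _) k)
      · exact absurd (Subtype.ext (hfpf _ (Q.mul_mem hs (Q.pow_mem ht k)) hst w w.2
          (congrArg Subtype.val hw))) hw1
  refine (Subgroup.card_le_of_le hle).trans ?_
  rw [Nat.card_zpowers]
  exact Nat.le_of_dvd hp.out.pos (orderOf_dvd_of_pow_eq_one (by rw [← map_pow, hexp t ht, map_one]))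

/-- With trivial `p`-core the Sylow `p`-subgroups have order at most `p`. -/
theorem not_sq_dvd [Group.IsSolvable X] (h : Hyp p X) (hX : Cfsg.pCore p X = ⊥) :
    ¬ p ^ 2 ∣ Nat.card X := by
  classical
  intro hdvd
  set K := Cfsg.pPrimeCore p X with hKdef
  have hK : (Nat.card K).Coprime p := Cores.pPrimeCore_coprime p
  haveI : Nontrivial X := by
    rw [← Finite.one_lt_card_iff_nontrivial]
    have h1 := Nat.le_of_dvd Nat.card_pos hdvd
    nlinarith [hp.out.two_le]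
  have hK1 : K ≠ ⊥ := fun hb => PSolvable.pCore_ne_bot
    (PSolvable.isPSolvable_of_isSolvable (p := p) (G := X)) (hKdef ▸ hb) hX
  -- a minimal normal subgroup in the core
  haveI : Nonempty {W : Subgroup X // W.Normal ∧ W ≤ K ∧ W ≠ ⊥} :=
    ⟨⟨K, inferInstance, le_rfl, hK1⟩⟩
  obtain ⟨⟨M, hMn, hMK, hM⟩, hMmin⟩ := Finite.exists_min
    (fun W : {W : Subgroup X // W.Normal ∧ W ≤ K ∧ W ≠ ⊥} => Nat.card W.1)
  have hMmin' : ∀ W : Subgroup X, W.Normal → W ≤ M → W = ⊥ ∨ W = M := fun W hW hWM => by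
    by_cases hW0 : W = ⊥
    · exact Or.inl hW0
    · exact Or.inr (Subgroup.eq_of_le_of_card_ge hWM (hMmin ⟨W, hW, hWM.trans hMK, hW0⟩))
  have hMab : ∀ a ∈ M, ∀ b ∈ M, a * b = b * a := fun a ha b hb => by
    rcases hMmin' ⁅M, M⁆ inferInstance (Subgroup.commutator_le_self M) with h0 | h0
    · exact commutatorElement_eq_one_iff_mul_comm.mp (Subgroup.mem_bot.mp
        (h0 ▸ Subgroup.commutator_mem_commutator ha hb))
    · exact absurd h0 (Group.IsSolvable.commutator_lt_of_ne_bot hM).ne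
  set R := Cfsg.pCore p (X ⧸ K) with hR
  have hRp : IsPGroup p R := Cores.pCore_isPGroup p
  have hO : Cfsg.pPrimeCore p (X ⧸ K) = ⊥ := Cores.pPrimeCore_quotient_pPrimeCore p
  have hCR : Subgroup.centralizer (R : Set (X ⧸ K)) ≤ R :=
    PSolvable.centralizer_pCore_le (PSolvable.isPSolvable_of_isSolvable (p := p) (G := X ⧸ K)) hO
  -- the centre of `R`
  set Z := (Subgroup.center R).map R.subtype with hZ
  haveI : Z.Normal := Cores.normal_map_subtype _ _
  have hZR : Z ≤ R := Subgroup.map_subtype_le _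
  have hZmem : ∀ z, z ∈ Z ↔ z ∈ R ∧ ∀ w ∈ R, w * z = z * w := fun z => by
    constructor
    · rintro ⟨⟨z, hz⟩, hzc, rfl⟩
      exact ⟨hz, fun w hw => congrArg Subtype.val (Subgroup.mem_center_iff.mp hzc ⟨w, hw⟩)⟩
    · rintro ⟨hz, hzc⟩
      exact ⟨⟨z, hz⟩, Subgroup.mem_center_iff.mpr fun w => Subtype.ext (hzc w w.2), rfl⟩
  have hvanZ : ∀ g : X, (g : X ⧸ K) ∈ Z → g ∉ K → (∃ j, g ^ p ^ j = 1) → ∀ m ∈ M,
      ∃ χ : Cfsg.IrrCharacter X, (χ : X → ℂ) (g * m) = 0 := fun g hg hgK ⟨j, hj⟩ m hm =>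
    exists_zero_mul K hK hX Z (hRp.to_le hZR)
      (fun a ha b hb => ((hZmem b).mp hb).2 a (hZR ha)) M hMK hMab hMmin' hj hg hgK hm
  have hR1 : R ≠ ⊥ := by
    intro hb
    haveI : Nontrivial (X ⧸ K) := QuotientGroup.nontrivial_iff.mpr fun hKt => by
      have : (Nat.card X).Coprime p := by
        have h1 := hK
        rw [hKt, Subgroup.card_top] at h1
        exact h1
      exact hp.out.ne_one (Nat.eq_one_of_dvd_coprimes this.symm dvd_rfl
        (dvd_trans (dvd_pow_self p two_ne_zero) hdvd))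
    exact PSolvable.pCore_ne_bot
      (PSolvable.isPSolvable_of_isSolvable (p := p) (G := X ⧸ K)) hO hb
  have hZ1 : Z ≠ ⊥ := by
    haveI : Nontrivial R := (Subgroup.nontrivial_iff_ne_bot R).mpr hR1
    haveI := hRp.center_nontrivial
    rw [hZ, Ne, Subgroup.map_eq_bot_iff_of_injective _ R.subtype_injective]
    exact (Subgroup.nontrivial_iff_ne_bot _).mp inferInstance
  have hZp : Nat.card Z = p := by
    refine le_antisymm (card_le_of_van h K hK M hM hMK hMab Z (hRp.to_le hZR)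
      (fun a ha b hb => ((hZmem b).mp hb).2 a (hZR ha)) hvanZ) ?_
    exact Nat.le_of_dvd Nat.card_pos ((hRp.to_le hZR).card_eq_or_dvd.resolve_left
      fun h1 => hZ1 (Subgroup.card_eq_one.mp h1))
  -- `R` has order `p`
  have hRZ : R = Z := by
    by_contra hne
    haveI : (Z.subgroupOf R).Normal := Subgroup.normal_subgroupOf
    haveI : Nontrivial (R ⧸ Z.subgroupOf R) := QuotientGroup.nontrivial_iff.mpr fun h0 =>
      hne (le_antisymm (Subgroup.subgroupOf_eq_top.mp h0) hZR)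
    haveI := (hRp.to_quotient (Z.subgroupOf R)).center_nontrivial
    obtain ⟨⟨q, hq⟩, hq1⟩ := exists_ne (1 : Subgroup.center (R ⧸ Z.subgroupOf R))
    obtain ⟨u, rfl⟩ := QuotientGroup.mk_surjective q
    have huZ : (u : X ⧸ K) ∉ Z := fun hu => hq1 (Subtype.ext
      ((QuotientGroup.eq_one_iff u).mpr (Subgroup.mem_subgroupOf.mpr hu)))
    let Z₂ := ((Subgroup.center (R ⧸ Z.subgroupOf R)).comap
      (QuotientGroup.mk' (Z.subgroupOf R))).map R.subtype
    have hZ₂ : ∀ e ∈ Z₂, e ∈ R ∧ ∀ w ∈ R, ⁅w, e⁆ ∈ Z := by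
      rintro _ ⟨e, he, rfl⟩
      refine ⟨e.2, fun w hw => ?_⟩
      have h1 := Subgroup.mem_center_iff.mp he (QuotientGroup.mk ⟨w, hw⟩)
      have h2 : (QuotientGroup.mk ⁅(⟨w, hw⟩ : R), e⁆ : R ⧸ Z.subgroupOf R) = 1 := by
        rw [← QuotientGroup.mk'_apply, map_commutatorElement]
        exact commutatorElement_eq_one_iff_mul_comm.mpr h1
      exact Subgroup.mem_subgroupOf.mp ((QuotientGroup.eq_one_iff _).mp h2)
    set E := Z ⊔ Subgroup.zpowers (u : X ⧸ K) with hE
    have hER : E ≤ R := sup_le hZR (Subgroup.zpowers_le.mpr u.2)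
    have hEZ₂ : E ≤ Z₂ := sup_le (fun z hz => ⟨⟨z, hZR hz⟩, by
        rw [SetLike.mem_coe, Subgroup.mem_comap]
        rw [show QuotientGroup.mk' (Z.subgroupOf R) ⟨z, hZR hz⟩ = 1 from
          (QuotientGroup.eq_one_iff _).mpr (Subgroup.mem_subgroupOf.mpr hz)]
        exact one_mem _, rfl⟩) (Subgroup.zpowers_le.mpr ⟨u, hq, rfl⟩)
    have hEc : ∀ a ∈ E, ∀ b ∈ E, a * b = b * a := by
      intro a ha b hb
      obtain ⟨z, hz, c, ⟨i, rfl⟩, rfl⟩ := Subgroup.mem_sup_of_normal_left.mp ha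
      obtain ⟨z', hz', c, ⟨i', rfl⟩, rfl⟩ := Subgroup.mem_sup_of_normal_left.mp hb
      have c1 : ∀ z ∈ Z, ∀ x ∈ R, Commute z x := fun z hz x hx => (((hZmem z).mp hz).2 x hx).symm
      have e1 : Commute z (z' * (u : X ⧸ K) ^ i') := c1 z hz _ (hER hb)
      have e2 : Commute ((u : X ⧸ K) ^ i) (z' * (u : X ⧸ K) ^ i') :=
        ((c1 z' hz' _ (R.zpow_mem u.2 i)).symm).mul_right ((Commute.refl _).zpow_zpow i i')
      exact (e1.mul_left e2).eq
    have hvanE : ∀ g : X, (g : X ⧸ K) ∈ E → g ∉ K → (∃ j, g ^ p ^ j = 1) → ∀ m ∈ M,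
        ∃ χ : Cfsg.IrrCharacter X, (χ : X → ℂ) (g * m) = 0 := by
      intro g hg hgK hgp m hm
      by_cases hgZ : (g : X ⧸ K) ∈ Z
      · exact hvanZ g hgZ hgK hgp m hm
      obtain ⟨heR, hec⟩ := hZ₂ _ (hEZ₂ hg)
      obtain ⟨w, hw, hwe⟩ : ∃ w ∈ R, w * (g : X ⧸ K) ≠ g * w := by
        by_contra h0
        push Not at h0
        exact hgZ ((hZmem _).mpr ⟨heR, h0⟩)
      obtain ⟨χ, hχ⟩ := OneVanishing.Vanish.exists_zero_of_commutator (p := p) Z hZp
        (fun a ha => (((hZmem a).mp ha).2 w hw)) (hec w hw)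
        (fun h0 => hwe (commutatorElement_eq_one_iff_mul_comm.mp h0))
      refine ⟨⟨(χ : X ⧸ K → ℂ) ∘ QuotientGroup.mk' K,
        isIrrCharacter_comp _ (QuotientGroup.mk'_surjective K) χ.2⟩, ?_⟩
      show (χ : X ⧸ K → ℂ) (QuotientGroup.mk' K (g * m)) = 0
      rw [map_mul, show QuotientGroup.mk' K m = 1 from (QuotientGroup.eq_one_iff m).mpr (hMK hm),
        mul_one]
      exact hχ
    have h1 := card_le_of_van h K hK M hM hMK hMab E (hRp.to_le hER) hEc hvanE
    exact huZ ((Subgroup.eq_of_le_of_card_ge le_sup_left (h1.trans hZp.ge) : Z = E) ▸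
      Subgroup.mem_sup_right (Subgroup.mem_zpowers _))
  -- conclusion
  haveI : IsCyclic R := isCyclic_of_prime_card (p := p) (by rw [hRZ]; exact hZp)
  have hcardX : p ^ 2 ∣ Nat.card (X ⧸ K) :=
    Nat.Coprime.dvd_of_dvd_mul_right (hK.symm.pow_left 2)
      (Subgroup.card_eq_card_quotient_mul_card_subgroup K ▸ hdvd)
  obtain ⟨P⟩ : Nonempty (Sylow p (X ⧸ K)) := inferInstance
  have hPR : (P : Subgroup (X ⧸ K)) ≤ R := fun a ha => hCR
    (Subgroup.mem_centralizer_iff.mpr fun f hf => (OneVanishing.Main.commute_of_card R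
      (by rw [hRZ]; exact hZp) P.isPGroup' a ha f hf).symm)
  have h1 := Subgroup.card_dvd_of_le hPR
  rw [show Nat.card R = p by rw [hRZ]; exact hZp] at h1
  have h2 : p ^ 2 ∣ Nat.card (P : Subgroup (X ⧸ K)) := by
    rw [P.card_eq_multiplicity]
    exact pow_dvd_pow p ((hp.out.pow_dvd_iff_le_factorization Nat.card_pos.ne').mp hcardX)
  have h3 := Nat.le_of_dvd hp.out.pos (h2.trans h1)
  nlinarith [hp.out.two_le]

end Cfsg.Agent.Lib.VanishingOrder
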